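import Cfsg.Agent.Lib.Sporadic.HNSub.C.Data

set_option autoImplicit false
set_option maxRecDepth 20000

/-! Checks of the derivations (owner: helper25). -/

namespace CfsgLib.Sporadic.HNSub.C
open CfsgLib.Recog.SporBound (Q)

theorem steps0 : cert.stepsPart cert.allRels 0 2 = true := by decide +kernel

end CfsgLib.Sporadic.HNSub.C
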